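import Groth.Agent.Fga.IntegralSub
import Mathlib.AlgebraicGeometry.Noetherian
import Mathlib.AlgebraicGeometry.Morphisms.Immersion

/-!
# Noetherian induction on a Noetherian scheme

* `noeth_principle`: a property `B` of subsets of a Noetherian scheme `T`, stable under subsets and finite unions,
  holds for all of `T` if for every immersion `h : Spec A ⟶ T`, `A` a Noetherian domain, it holds for `h(D(a))` for
  some nonzero `a`.
* `exists_factor`: a morphism from the spectrum of a field whose image lies in the image of an immersion factors.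
-/

set_option autoImplicit false
universe u

open CategoryTheory CategoryTheory.Limits AlgebraicGeometry TopologicalSpace

namespace Groth.Agent.Pic13.H508.Noeth

theorem noeth_principle {T : Scheme.{u}} [IsNoetherian T] (B : Set T → Prop) (h0 : B ∅)
    (hmono : ∀ s t : Set T, s ⊆ t → B t → B s) (hun : ∀ s t : Set T, B s → B t → B (s ∪ t))
    (H : ∀ (A : CommRingCat.{u}) [IsDomain A] [IsNoetherianRing A] (h : Spec A ⟶ T) [IsImmersion h],
      ∃ a : A, a ≠ 0 ∧ B (h '' (PrimeSpectrum.basicOpen a : Set (PrimeSpectrum A)))) :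
    B Set.univ := by
  suffices key : ∀ Z : Closeds T, B Z from key ⊤
  intro Z
  induction Z using WellFoundedLT.induction with
  | ind Z IH =>
    by_cases hne : (Z : Set T) = ∅
    · rw [hne]; exact h0
    by_cases hirr : IsPreirreducible (Z : Set T)
    · have hirr' : IsIrreducible (Z : Set T) := ⟨Set.nonempty_iff_ne_empty.mpr hne, hirr⟩
      obtain ⟨y, hy⟩ := QuasiSober.sober hirr' Z.isClosed
      obtain ⟨W, i, hi, hW, -, hr⟩ := Fga.IntegralSub.exists_integral_closed y
      have hr' : Set.range i = (Z : Set T) := by rw [hr]; exact hy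
      have : IsNoetherian W := by
        have : IsLocallyNoetherian W := LocallyOfFiniteType.isLocallyNoetherian i
        have : CompactSpace W := QuasiCompact.compactSpace_of_compactSpace i
        exact {}
      obtain ⟨V, hV', hyV, -⟩ := exists_isAffineOpen_mem_and_subset
        (x := genericPoint W) (U := ⊤) trivial
      have hVne : Nonempty V := ⟨⟨_, hyV⟩⟩
      let A : CommRingCat.{u} := Γ(W, V)
      have hdom : IsDomain A := inferInstanceAs (IsDomain Γ(W, V))
      have hno : IsNoetherianRing A := IsLocallyNoetherian.component_noetherian ⟨V, hV'⟩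
      obtain ⟨a, ha, hB⟩ := H A (hV'.fromSpec ≫ i)
      have hUo : IsOpen (hV'.fromSpec '' (PrimeSpectrum.basicOpen a : Set (PrimeSpectrum A))) :=
        hV'.fromSpec.isOpenEmbedding.isOpenMap _ (PrimeSpectrum.basicOpen a).2
      have hcl : IsClosed (i '' (hV'.fromSpec '' (PrimeSpectrum.basicOpen a : Set (PrimeSpectrum A)))ᶜ) :=
        i.isClosedEmbedding.isClosedMap _ hUo.isClosed_compl
      let Z' : Closeds T := ⟨_, hcl⟩
      have hle : Z' ≤ Z := by
        rintro _ ⟨w, -, rfl⟩
        change i w ∈ (Z : Set T)
        rw [← hr']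
        exact ⟨w, rfl⟩
      have hlt : Z' < Z := by
        refine lt_of_le_of_ne hle fun he => ?_
        have h1 : (PrimeSpectrum.basicOpen a : Set (PrimeSpectrum A)).Nonempty := by
          refine ⟨⟨⊥, Ideal.isPrime_bot⟩, ?_⟩
          simpa using ha
        obtain ⟨p, hp⟩ := h1
        have h2 : i (hV'.fromSpec p) ∈ (Z : Set T) := by rw [← hr']; exact ⟨_, rfl⟩
        rw [← he] at h2
        obtain ⟨w, hw, hwe⟩ := h2
        have h3 : w = hV'.fromSpec p := i.isClosedEmbedding.injective hwe
        exact hw (h3 ▸ ⟨p, hp, rfl⟩)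
      have h4 := hun _ _ hB (IH Z' hlt)
      refine hmono _ _ ?_ h4
      intro z hz
      rw [← hr'] at hz
      obtain ⟨w, rfl⟩ := hz
      by_cases hw : w ∈ (hV'.fromSpec '' (PrimeSpectrum.basicOpen a : Set (PrimeSpectrum A)))
      · left
        obtain ⟨p, hp, rfl⟩ := hw
        exact ⟨p, hp, by simp⟩
      · right
        exact ⟨w, hw, rfl⟩
    · simp only [isPreirreducible_iff_isClosed_union_isClosed, not_forall, not_or] at hirr
      obtain ⟨z₁, z₂, h1, h2, h12, hz1, hz2⟩ := hirr
      let Z₁ : Closeds T := Z ⊓ ⟨z₁, h1⟩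
      let Z₂ : Closeds T := Z ⊓ ⟨z₂, h2⟩
      have l1 : Z₁ < Z := by
        refine lt_of_le_of_ne inf_le_left fun he => hz1 ?_
        intro z hz
        rw [← he] at hz
        exact hz.2
      have l2 : Z₂ < Z := by
        refine lt_of_le_of_ne inf_le_left fun he => hz2 ?_
        intro z hz
        rw [← he] at hz
        exact hz.2
      refine hmono _ _ ?_ (hun _ _ (IH _ l1) (IH _ l2))
      intro z hz
      rcases h12 hz with h | h
      · exact Or.inl ⟨hz, h⟩
      · exact Or.inr ⟨hz, h⟩

/-- A morphism from the spectrum of a field whose image lies in the image of an immersion factors. -/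
theorem exists_factor {K : Type u} [Field K] {T V : Scheme.{u}} (h : V ⟶ T) [IsImmersion h]
    (t : Spec (CommRingCat.of K) ⟶ T) (ht : Set.range t ⊆ Set.range h) :
    ∃ t' : Spec (CommRingCat.of K) ⟶ V, t' ≫ h = t := by
  have hsub : Subsingleton ↥(Spec (CommRingCat.of K)) :=
    inferInstanceAs (Subsingleton (PrimeSpectrum K))
  have hne : Nonempty ↥(Spec (CommRingCat.of K)) := inferInstanceAs (Nonempty (PrimeSpectrum K))
  obtain ⟨x⟩ := hne
  have hsurj : Surjective (pullback.snd h t) := by
    constructor
    intro y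
    obtain rfl : y = x := Subsingleton.elim _ _
    obtain ⟨v, hv⟩ := ht ⟨y, rfl⟩
    obtain ⟨z, hz1, hz2⟩ := Scheme.Pullback.exists_preimage_pullback v y hv
    exact ⟨z, hz2⟩
  have hcl : IsClosedImmersion (pullback.snd h t) := by
    refine IsClosedImmersion.of_isPreimmersion _ ?_
    rw [Set.range_eq_univ.mpr hsurj.surj]
    exact isClosed_univ
  have hiso : IsIso (pullback.snd h t) := isIso_of_isClosedImmersion_of_surjective _
  exact ⟨inv (pullback.snd h t) ≫ pullback.fst h t, by
    rw [Category.assoc, pullback.condition, IsIso.inv_hom_id_assoc]⟩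

end Groth.Agent.Pic13.H508.Noeth
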