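import Mathlib.RingTheory.Localization.FractionRing
import Mathlib.RingTheory.Flat.Localization
import Mathlib.RingTheory.FiniteType
import Mathlib.RingTheory.TensorProduct.Basic
import Mathlib.RingTheory.Localization.BaseChange

/-!
# Finitely generated subalgebras over the generic point spread out

`R` a domain with fraction field `K`, `A` an `R`-algebra. A finitely generated `K`-algebra `B` embedded in
`K ⊗ A` is the generic fibre of a finitely generated subalgebra of `A`.
-/

set_option autoImplicit false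
open TensorProduct

namespace Groth.Agent.Pic13.H508.QuotAlg

variable {R K A : Type*} [CommRing R] [IsDomain R] [Field K] [Algebra R K] [IsFractionRing R K]
  [CommRing A] [Algebra R A]

/-- Clearing denominators. -/
theorem exists_smul_eq (z : K ⊗[R] A) :
    ∃ (r : R) (_ : r ≠ 0) (a : A), algebraMap R K r • z = (1 : K) ⊗ₜ[R] a := by
  induction z with
  | zero => exact ⟨1, one_ne_zero, 0, by simp⟩
  | tmul x y =>
    obtain ⟨⟨a, s⟩, h⟩ := IsLocalization.surj (nonZeroDivisors R) x
    refine ⟨s, nonZeroDivisors.ne_zero s.2, a • y, ?_⟩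
    rw [TensorProduct.smul_tmul', smul_eq_mul, mul_comm, TensorProduct.tmul_smul, TensorProduct.smul_tmul',
      Algebra.smul_def, mul_one]
    exact congr($h ⊗ₜ[R] y)
  | add x y hx hy =>
    obtain ⟨r, hr, a, ha⟩ := hx
    obtain ⟨s, hs, b, hb⟩ := hy
    refine ⟨r * s, mul_ne_zero hr hs, s • a + r • b, ?_⟩
    rw [smul_add, map_mul, mul_comm (algebraMap R K r), mul_smul, ha, mul_comm (algebraMap R K s), mul_smul, hb,
      TensorProduct.tmul_add, TensorProduct.tmul_smul, TensorProduct.tmul_smul, algebraMap_smul, algebraMap_smul]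

theorem exists_subalgebra {B : Type*} [CommRing B] [Algebra K B] [Algebra.FiniteType K B]
    (ψ : B →ₐ[K] K ⊗[R] A) (hψ : Function.Injective ψ) :
    ∃ (D : Subalgebra R A) (_ : D.FG) (σ : K ⊗[R] D ≃ₐ[K] B),
      ∀ x, ψ (σ x) = Algebra.TensorProduct.map (AlgHom.id K K) D.val x := by
  classical
  obtain ⟨s, hs⟩ := (Algebra.FiniteType.out : (⊤ : Subalgebra K B).FG)
  choose r hr a ha using fun b : B => exists_smul_eq (ψ b)
  let D : Subalgebra R A := Algebra.adjoin R (a '' (s : Set B))
  have hD : D.FG := by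
    have h0 := Subalgebra.fg_adjoin_finset (R := R) (s.image a)
    rwa [Finset.coe_image] at h0
  have : Module.Flat R K := IsLocalization.flat K (nonZeroDivisors R)
  let i : K ⊗[R] D →ₐ[K] K ⊗[R] A := Algebra.TensorProduct.map (AlgHom.id K K) D.val
  have hi : Function.Injective i := by
    have h1 : Function.Injective (LinearMap.lTensor K D.val.toLinearMap) :=
      Module.Flat.lTensor_preserves_injective_linearMap (M := K) D.val.toLinearMap Subtype.val_injective
    intro x y hxy
    exact h1 hxy
  have hrange : i.range = ψ.range := by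
    apply le_antisymm
    · rintro _ ⟨z, rfl⟩
      change i z ∈ ψ.range
      induction z with
      | zero => rw [map_zero]; exact zero_mem _
      | add x y hx hy => rw [map_add]; exact add_mem hx hy
      | tmul x y =>
        have h1 : i (x ⊗ₜ y) = x • ((1 : K) ⊗ₜ[R] (y : A)) := by
          rw [TensorProduct.smul_tmul', smul_eq_mul, mul_one]
          rfl
        rw [h1]
        refine Subalgebra.smul_mem _ ?_ x
        obtain ⟨y, hy⟩ := y
        change (1 : K) ⊗ₜ[R] y ∈ ψ.range
        have h2 : D ≤ (ψ.range.restrictScalars R).comap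
            (Algebra.TensorProduct.includeRight : A →ₐ[R] K ⊗[R] A) := by
          refine Algebra.adjoin_le ?_
          rintro _ ⟨b, hb, rfl⟩
          change (1 : K) ⊗ₜ[R] (a b) ∈ ψ.range
          rw [← ha b]
          exact Subalgebra.smul_mem _ (ψ.mem_range_self b) _
        exact h2 hy
    · rw [← Algebra.map_top, ← hs, AlgHom.map_adjoin]
      refine Algebra.adjoin_le ?_
      rintro _ ⟨b, hb, rfl⟩
      have h1 : ψ b = (algebraMap R K (r b))⁻¹ • ((1 : K) ⊗ₜ[R] (a b)) := by
        rw [← ha b, smul_smul, inv_mul_cancel₀, one_smul]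
        exact (map_ne_zero_iff _ (IsFractionRing.injective R K)).mpr (hr b)
      change ψ b ∈ i.range
      rw [h1]
      have h3 : a b ∈ D := Algebra.subset_adjoin (Set.mem_image_of_mem a hb)
      have h2 : (1 : K) ⊗ₜ[R] (a b) ∈ i.range :=
        (AlgHom.mem_range i).mpr ⟨(1 : K) ⊗ₜ[R] (⟨a b, h3⟩ : D), rfl⟩
      exact Subalgebra.smul_mem _ h2 _
  let e1 : K ⊗[R] D ≃ₐ[K] i.range := AlgEquiv.ofInjective i hi
  let e2 : B ≃ₐ[K] ψ.range := AlgEquiv.ofInjective ψ hψ
  refine ⟨D, hD, (e1.trans (Subalgebra.equivOfEq _ _ hrange)).trans e2.symm, fun x => ?_⟩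
  have h1 : ((e2 ((e1.trans (Subalgebra.equivOfEq _ _ hrange)).trans e2.symm x) : ψ.range) : K ⊗[R] A) =
      ψ (((e1.trans (Subalgebra.equivOfEq _ _ hrange)).trans e2.symm) x) := rfl
  rw [← h1]
  simp only [AlgEquiv.trans_apply, AlgEquiv.apply_symm_apply]
  rfl

end Groth.Agent.Pic13.H508.QuotAlg
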