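import Groth.Agent.Sga3C.QuotProps
import Groth.Agent.GrpQ.H774.KerQuot
import Groth.Prelude.Def_AlgGrp
import Groth.Prelude.Def_Red

/-!
# Quotients of group schemes by the image of a homomorphism: the transitivity condition

`Trans h q` for a homomorphism `h : U ⟶ W` and a map `q : W ⟶ X` over `S`: `q` is an fppf cover and `U` acts
(through `h`, by translations) transitively on the fibres of `q`, fppf locally.

* `Trans.exists_local`, `Trans.mul_comp` : the condition on points;
* `Trans.exists_quot` : for `W` commutative, `X` separated over `S`: `X` is a group scheme, `q` a homomorphism,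
  its kernel `N` is a closed subgroup scheme, and `h` factors through an fppf cover `e : U ⟶ N`;
* `Trans.comp_iso`, `Trans.baseChange`.
-/

set_option autoImplicit false
universe u
open CategoryTheory MonoidalCategory CartesianMonoidalCategory MonObj GrpObj AlgebraicGeometry Limits

namespace Groth.Agent.Pic13.H508.QuotDef

open Groth.Agent.Sga3C.QuotProps

variable {S : Scheme.{u}}

/-- fppf covers -/
def IsFppf {X Y : Scheme.{u}} (f : X ⟶ Y) : Prop := Flat f ∧ Surjective f ∧ LocallyOfFinitePresentation f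

/-- `q` is an fppf cover and `U` acts transitively on its fibres through `h`, fppf locally. -/
def Trans {U W X : Over S} [GrpObj U] [GrpObj W] (h : U ⟶ W) (q : W ⟶ X) : Prop :=
  IsFppf q.left ∧ ∃ (E : Over S) (a b : E ⟶ W) (_ : IsPullback a b q q) (c : U ⊗ W ⟶ E),
    c ≫ a = (h ▷ W) ≫ μ[W] ∧ c ≫ b = snd U W ∧ IsFppf c.left

lemma IsFppf.of_isPullback {X Y X' Y' : Scheme.{u}} {f : X ⟶ Y} {f' : X' ⟶ Y'} {g' : X' ⟶ X} {g : Y' ⟶ Y}
    (h : IsPullback g' f' f g) (hf : IsFppf f) : IsFppf f' := by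
  obtain ⟨h1, h2, h3⟩ := hf
  exact ⟨MorphismProperty.of_isPullback h h1, MorphismProperty.of_isPullback h h2,
    MorphismProperty.of_isPullback h h3⟩

lemma IsFppf.comp {X Y Z : Scheme.{u}} {f : X ⟶ Y} {g : Y ⟶ Z} (hf : IsFppf f) (hg : IsFppf g) :
    IsFppf (f ≫ g) := by
  obtain ⟨h1, h2, h3⟩ := hf
  obtain ⟨h4, h5, h6⟩ := hg
  exact ⟨inferInstance, inferInstance, inferInstance⟩

lemma IsFppf.of_isIso {X Y : Scheme.{u}} (f : X ⟶ Y) [IsIso f] : IsFppf f :=
  ⟨inferInstance, inferInstance, inferInstance⟩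

lemma IsFppf.epi {X Y : Over S} {r : X ⟶ Y} (h : IsFppf r.left) : Epi r := by
  obtain ⟨h1, h2, h3⟩ := h
  exact epi_of_flat_surjective r

section

variable {U W X : Over S} [GrpObj U] [GrpObj W] {h : U ⟶ W} {q : W ⟶ X}

omit [GrpObj U] in
lemma act_apply {T : Over S} (l : T ⟶ U ⊗ W) :
    l ≫ (h ▷ W) ≫ μ[W] = ((l ≫ fst U W) ≫ h) * (l ≫ snd U W) := by
  rw [Hom.mul_def, ← Category.assoc]
  congr 1
  ext1 <;> simp

theorem Trans.mul_comp (ht : Trans h q) {T : Over S} (x : T ⟶ U) (w : T ⟶ W) :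
    ((x ≫ h) * w) ≫ q = w ≫ q := by
  obtain ⟨-, E, a, b, hE, c, ha, hb, -⟩ := ht
  have h1 : ((x ≫ h) * w) = (lift x w ≫ c) ≫ a := by
    rw [Category.assoc, ha, act_apply, lift_fst, lift_snd]
  have h2 : w = (lift x w ≫ c) ≫ b := by
    rw [Category.assoc, hb, lift_snd]
  rw [h1, Category.assoc, hE.w, ← Category.assoc, ← h2]

theorem Trans.exists_local (ht : Trans h q) {T : Over S} (x y : T ⟶ W) (hxy : x ≫ q = y ≫ q) :
    ∃ (T' : Over S) (r : T' ⟶ T) (v : T' ⟶ U), IsFppf r.left ∧ r ≫ x = (v ≫ h) * (r ≫ y) := by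
  obtain ⟨-, E, a, b, hE, c, ha, hb, hc⟩ := ht
  let z : T ⟶ E := hE.lift x y hxy
  refine ⟨pullback z c, pullback.fst z c, pullback.snd z c ≫ fst U W, ?_, ?_⟩
  · exact IsFppf.of_isPullback ((IsPullback.of_hasPullback z c).flip.map (Over.forget S)) hc
  · have h1 : pullback.fst z c ≫ x = pullback.snd z c ≫ (h ▷ W) ≫ μ[W] := by
      rw [← ha, ← Category.assoc, ← pullback.condition, Category.assoc, hE.lift_fst]
    have h2 : pullback.fst z c ≫ y = pullback.snd z c ≫ snd U W := by
      rw [← hb, ← Category.assoc, ← pullback.condition, Category.assoc, hE.lift_snd]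
    rw [h1, h2, act_apply]

end

section main

variable {U W X : Over S} [GrpObj U] [GrpObj W] {h : U ⟶ W} {q : W ⟶ X}

/-- the unit point of `X` -/
noncomputable abbrev pt (q : W ⟶ X) : 𝟙_ (Over S) ⟶ X := η[W] ≫ q

lemma isClosedImmersion_pt [IsSeparated X.hom] (w : 𝟙_ (Over S) ⟶ X) : IsClosedImmersion w.left := by
  have h1 : IsClosedImmersion (w.left ≫ X.hom) := by
    rw [Over.w]
    exact inferInstanceAs (IsClosedImmersion (𝟙 S))
  exact IsClosedImmersion.of_comp w.left X.hom

theorem comp_pt {T : Over S} : toUnit T ≫ pt q = (1 : T ⟶ W) ≫ q := by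
  rw [Hom.one_def, Category.assoc]

/-- Points of the fibre over the unit point. -/
theorem exists_fibre_iff {T : Over S} (x : T ⟶ W) :
    (∃ n : T ⟶ pullback q (pt q), n ≫ pullback.fst q (pt q) = x) ↔ x ≫ q = (1 : T ⟶ W) ≫ q := by
  constructor
  · rintro ⟨n, rfl⟩
    rw [Category.assoc, pullback.condition, ← Category.assoc, toUnit_unique (n ≫ _) (toUnit T), comp_pt]
  · intro hx
    exact ⟨pullback.lift x (toUnit T) (by rw [hx, comp_pt]), pullback.lift_fst _ _ _⟩

instance mono_fibre : Mono (pullback.fst q (pt q)) :=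
  ⟨fun a b hab => pullback.hom_ext hab (toUnit_unique _ _)⟩

theorem Trans.comp_eq (ht : Trans h q) : h ≫ q = (1 : U ⟶ W) ≫ q := by
  have h1 := ht.mul_comp (𝟙 U) (1 : U ⟶ W)
  rwa [Category.id_comp, _root_.mul_one] at h1

/-- The fibre over the unit point is fppf covered by `U`. -/
theorem Trans.exists_cover (ht : Trans h q) :
    ∃ e : U ⟶ pullback q (pt q), e ≫ pullback.fst q (pt q) = h ∧ IsFppf e.left := by
  obtain ⟨e, he⟩ := (exists_fibre_iff (q := q) h).mpr ht.comp_eq
  refine ⟨e, he, ?_⟩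
  obtain ⟨-, E, a, b, hE, c, ha, hb, hc⟩ := ht
  let N := pullback q (pt q)
  let n : N ⟶ W := pullback.fst q (pt q)
  have hn : n ≫ q = (1 : N ⟶ W) ≫ q := (exists_fibre_iff (q := q) n).mp ⟨𝟙 _, Category.id_comp _⟩
  let k : N ⟶ E := hE.lift n 1 hn
  have hsq : IsPullback (lift (𝟙 U) (1 : U ⟶ W)) e c k := by
    have w : lift (𝟙 U) (1 : U ⟶ W) ≫ c = e ≫ k := by
      apply hE.hom_ext
      · rw [Category.assoc, ha, act_apply, lift_fst, lift_snd, Category.id_comp, _root_.mul_one,
          Category.assoc, hE.lift_fst, he]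
      · rw [Category.assoc, hb, lift_snd, Category.assoc, hE.lift_snd, comp_one]
    have key : ∀ s : PullbackCone c k, s.fst = (s.fst ≫ fst U W) ≫ lift (𝟙 U) (1 : U ⟶ W) ∧
        (s.fst ≫ fst U W) ≫ e = s.snd := by
      intro s
      have h1 : s.fst ≫ snd U W = 1 := by
        have h2 := congr($(s.condition) ≫ b)
        rw [Category.assoc, hb, Category.assoc, hE.lift_snd, comp_one] at h2
        exact h2
      constructor
      · ext1
        · simp
        · rw [h1, Category.assoc, lift_snd, comp_one]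
      · have h3 := congr($(s.condition) ≫ a)
        rw [Category.assoc, ha, act_apply, h1, _root_.mul_one, Category.assoc s.snd, hE.lift_fst] at h3
        rw [← cancel_mono n, Category.assoc, he]
        exact h3
    exact ⟨⟨w⟩, ⟨PullbackCone.IsLimit.mk _ (fun s => s.fst ≫ fst U W) (fun s => (key s).1.symm)
      (fun s => (key s).2) (fun s m hm _ => by rw [← hm]; simp)⟩⟩
  exact IsFppf.of_isPullback (hsq.map (Over.forget S)) hc

/-- The kernel pair of `q`. -/
theorem Trans.isPullback (ht : Trans h q) :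
    IsPullback ((pullback.fst q (pt q) ▷ W) ≫ μ[W]) (snd _ W) q q := by
  have hn' : ∀ {T : Over S} (n : T ⟶ pullback q (pt q)) (w : T ⟶ W),
      ((n ≫ pullback.fst q (pt q)) * w) ≫ q = w ≫ q := by
    intro T n w
    have h1 : (n ≫ pullback.fst q (pt q)) ≫ q = (1 : T ⟶ W) ≫ q := (exists_fibre_iff _).mp ⟨n, rfl⟩
    obtain ⟨T', r, v, hr, hv⟩ := ht.exists_local _ _ h1
    have := hr.epi
    rw [← cancel_epi r, ← Category.assoc, ← Category.assoc, comp_mul, hv, comp_one,
      _root_.mul_one, ht.mul_comp]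
  have e : ∀ {T : Over S} (l : T ⟶ pullback q (pt q) ⊗ W),
      l ≫ (pullback.fst q (pt q) ▷ W) ≫ μ[W] =
        ((l ≫ fst _ W) ≫ pullback.fst q (pt q)) * (l ≫ snd _ W) := by
    intro T l
    rw [Hom.mul_def, ← Category.assoc]
    congr 1
    ext1 <;> simp
  have w : ((pullback.fst q (pt q) ▷ W) ≫ μ[W]) ≫ q = snd _ W ≫ q := by
    have h1 := e (𝟙 (pullback q (pt q) ⊗ W))
    rw [Category.id_comp, Category.id_comp, Category.id_comp] at h1
    rw [h1, hn']
  have key : ∀ s : PullbackCone q q, ∃ l : s.pt ⟶ pullback q (pt q) ⊗ W,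
      l ≫ (pullback.fst q (pt q) ▷ W) ≫ μ[W] = s.fst ∧ l ≫ snd _ W = s.snd := by
    intro s
    have h1 : (s.fst * s.snd⁻¹) ≫ q = (1 : s.pt ⟶ W) ≫ q := by
      obtain ⟨T', r, v, hr, hv⟩ := ht.exists_local _ _ s.condition
      have := hr.epi
      rw [← cancel_epi r, ← Category.assoc, ← Category.assoc, comp_mul, hv, comp_inv,
        mul_inv_cancel_right, comp_one]
      have h2 := ht.mul_comp v (1 : T' ⟶ W)
      rwa [_root_.mul_one] at h2
    obtain ⟨a, ha⟩ := (exists_fibre_iff _).mpr h1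
    refine ⟨lift a s.snd, ?_, by simp⟩
    rw [e, lift_fst, lift_snd, ha, inv_mul_cancel_right]
  choose l hl1 hl2 using key
  refine ⟨⟨w⟩, ⟨PullbackCone.IsLimit.mk _ l hl1 hl2 ?_⟩⟩
  intro s m hm1 hm2
  have h3 : m ≫ snd _ W = l s ≫ snd _ W := by rw [hm2, hl2]
  have h4 : (m ≫ fst _ W) ≫ pullback.fst q (pt q) = (l s ≫ fst _ W) ≫ pullback.fst q (pt q) := by
    have h5 : m ≫ (pullback.fst q (pt q) ▷ W) ≫ μ[W] = l s ≫ (pullback.fst q (pt q) ▷ W) ≫ μ[W] := by
      rw [hl1]; exact hm1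
    rw [e, e, h3] at h5
    exact mul_right_cancel h5
  ext1
  · exact (cancel_mono (pullback.fst q (pt q))).mp h4
  · exact h3

/-- **The quotient.** -/
theorem Trans.exists_quot (ht : Trans h q) [IsMonHom h] [IsCommMonObj W] [IsSeparated X.hom] :
    ∃ (N : Over S) (_ : GrpObj N) (_ : GrpObj X) (n : N ⟶ W) (e : U ⟶ N), IsMonHom n ∧ IsMonHom e ∧
      IsMonHom q ∧ e ≫ n = h ∧ IsClosedImmersion n.left ∧ IsFppf e.left ∧ AlgGrp.IsKernel n q := by
  obtain ⟨e, he, hf⟩ := ht.exists_cover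
  obtain ⟨hf1, hf2, hf3⟩ := hf
  obtain ⟨gN, h1, h2, -⟩ := Groth.Agent.GrpQ.H774.KerQuot.exists_grpObj U W _ h e (pullback.fst q (pt q)) he
  have hc : IsClosedImmersion (pullback.fst q (pt q)).left := by
    have h3 : IsClosedImmersion (pt q).left := isClosedImmersion_pt _
    have h4 := (IsPullback.of_hasPullback q (pt q)).map (Over.forget S)
    exact MorphismProperty.of_isPullback h4.flip h3
  obtain ⟨hq1, hq2, hq3⟩ := ht.1
  have hnorm : AlgGrp.IsNormalHom (pullback.fst q (pt q)) := by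
    intro T g n
    refine ⟨n, ?_⟩
    rw [mul_comm g, mul_inv_cancel_right]
  obtain ⟨gX, hX⟩ := exists_grpObj_quotient _ q ht.isPullback hnorm
  exact ⟨_, gN, gX, pullback.fst q (pt q), e, h2, h1, hX, he, hc, ⟨hf1, hf2, hf3⟩,
    isKernel_of_quotient _ q ht.isPullback⟩

theorem Trans.comp_iso {X' : Over S} (ht : Trans h q) (θ : X ⟶ X') [IsIso θ] : Trans h (q ≫ θ) := by
  obtain ⟨hq, E, a, b, hE, c, ha, hb, hc⟩ := ht
  refine ⟨?_, E, a, b, ?_, c, ha, hb, hc⟩
  · rw [Over.comp_left]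
    have : IsIso θ.left := inferInstanceAs (IsIso ((Over.forget S).map θ))
    exact hq.comp (IsFppf.of_isIso _)
  · refine IsPullback.of_iso hE (Iso.refl _) (Iso.refl _) (Iso.refl _) (asIso θ) ?_ ?_ ?_ ?_ <;> simp

end main

section baseChange

variable {S' : Scheme.{u}} (g : S' ⟶ S)

/-- The base change of a morphism over `S`. -/
lemma isPullback_map_left {X Y : Over S} (w : X ⟶ Y) :
    IsPullback (pullback.fst X.hom g) ((Over.pullback g).map w).left w.left
      (pullback.fst Y.hom g) := by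
  have h1 : IsPullback (pullback.fst Y.hom g) (pullback.snd Y.hom g) Y.hom g :=
    .of_hasPullback _ _
  have h2 : IsPullback (pullback.fst X.hom g) (pullback.snd X.hom g) (w.left ≫ Y.hom) g := by
    rw [Over.w w]
    exact .of_hasPullback _ _
  refine IsPullback.of_bot (v₂₁ := pullback.snd Y.hom g) (v₂₂ := Y.hom) (h₃₁ := g) ?_ ?_ h1
  · have : ((Over.pullback g).map w).left ≫ pullback.snd Y.hom g = pullback.snd X.hom g :=
      pullback.lift_snd _ _ _
    rw [this]
    exact h2
  · exact (pullback.lift_fst _ _ _).symm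

lemma IsFppf.map {X Y : Over S} {w : X ⟶ Y} (hw : IsFppf w.left) :
    IsFppf ((Over.pullback g).map w).left := IsFppf.of_isPullback (isPullback_map_left g w) hw

variable {U W X : Over S} [GrpObj U] [GrpObj W] {h : U ⟶ W} {q : W ⟶ X}

/-- The transitivity condition after a base change. -/
theorem trans_map {E : Over S} {a b : E ⟶ W} (hE : IsPullback a b q q) (c : U ⊗ W ⟶ E)
    (ha : c ≫ a = (h ▷ W) ≫ μ[W]) (hb : c ≫ b = snd U W)
    (hq : IsFppf ((Over.pullback g).map q).left) (hc : IsFppf ((Over.pullback g).map c).left) :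
    Trans ((Over.pullback g).map h : Red.bc g U ⟶ Red.bc g W) ((Over.pullback g).map q) := by
  refine ⟨hq, (Over.pullback g).obj E, (Over.pullback g).map a, (Over.pullback g).map b,
    hE.map (Over.pullback g), Functor.LaxMonoidal.μ (Over.pullback g) U W ≫ (Over.pullback g).map c, ?_, ?_, ?_⟩
  · rw [Category.assoc, ← Functor.map_comp, ha, Functor.map_comp,
      ← Functor.LaxMonoidal.μ_natural_left_assoc]
    rfl
  · rw [Category.assoc, ← Functor.map_comp, hb]
    exact Functor.Monoidal.μ_snd _ _ _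
  · rw [Over.comp_left]
    have h1 : IsIso (Functor.LaxMonoidal.μ (Over.pullback g) U W).left :=
      inferInstanceAs (IsIso ((Over.forget S').map (Functor.LaxMonoidal.μ (Over.pullback g) U W)))
    exact (IsFppf.of_isIso _).comp hc

theorem Trans.baseChange (ht : Trans h q) :
    Trans ((Over.pullback g).map h : Red.bc g U ⟶ Red.bc g W) ((Over.pullback g).map q) := by
  obtain ⟨hq, E, a, b, hE, c, ha, hb, hc⟩ := ht
  exact trans_map g hE c ha hb (hq.map g) (hc.map g)

end baseChange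

end Groth.Agent.Pic13.H508.QuotDef
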