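import Groth.Agent.Pic13.H508.QuotDef
import Groth.Agent.Sga3.H817.GenericSpread
import Groth.Agent.Sga3.H515.LimSmooth
import Groth.Agent.Ega43.LimSurj
import Groth.Agent.Ega43.LocusFlat
import Groth.Agent.Sga7.H516.GenExt

/-!
# Spreading out the transitivity condition from the generic point
-/

set_option autoImplicit false
universe u
open CategoryTheory MonoidalCategory CartesianMonoidalCategory MonObj GrpObj AlgebraicGeometry Limits

namespace Groth.Agent.Pic13.H508.QuotGeneric

open QuotDef Groth.Agent.Ega43.Locus Groth.Agent.Ega43.LocusAff Groth.Agent.Ega43.ResSysSch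
  Groth.Agent.Sga3.H817.GenericSpread Groth.Agent.Ega43.LimitDescend

theorem descRow_flat : DescRow @Flat.{u} :=
  fun D c hc _ i₀ _ _ _ _ f₀ g₀ _ _ _ _ _ _ _ _ f g qY qX hY hX hf =>
    exists_descend_of_descendsLim' Groth.Agent.Sga3.H515.LimSmooth.descendsLim_flat D c hc i₀ f₀ g₀ f g
      qY qX hY hX hf

theorem descRow_surjective : DescRow @Surjective.{u} :=
  Descends.descRow Groth.Agent.Ega43.LimSurj.descends_surjective

theorem fpqcInv_surjective : FpqcInv @Surjective.{u} where
  iff_of_isPullback {X Y X' Y'} {f f' qX qY} h h1 h2 h3 := by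
    constructor
    · intro hf
      have h4 : Surjective (qX ≫ f) := by rw [h.w]; infer_instance
      exact Surjective.of_comp qX f
    · intro hf
      exact MorphismProperty.of_isPullback h hf

section spread

variable {S : Scheme.{u}} [IsIntegral S]

/-- A property of the generic fibre of a morphism holds over a nonempty open. -/
theorem exists_open_map {P : MorphismProperty Scheme.{u}} [P.IsStableUnderBaseChange] (hP : FpqcInv P)
    (hD : DescRow P) {Y Z : Over S} (c : Y ⟶ Z) (hY : FP Y.hom) (hZ : FP Z.hom) {K : Type u} [Field K]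
    (t : Spec (CommRingCat.of K) ⟶ S) (ht : t (IsLocalRing.closedPoint K) = genericPoint S)
    (h : P ((Over.pullback t).map c).left) :
    ∃ V : S.Opens, genericPoint S ∈ V ∧ ∀ V' : S.Opens, V' ≤ V → P ((Over.pullback V'.ι).map c).left := by
  have h1 : genericPoint S ∈ locus P c.left Z.hom := by
    rw [← ht]
    exact (mem_locus_iff_of_field hP (IsPullback.of_hasPullback Z.hom t) (isPullback_map_left t c)).mpr h
  have h2 : FP (c.left ≫ Z.hom) := by rw [Over.w]; exact hY
  obtain ⟨V, hV, hPV⟩ := exists_open_of_generic hP hD c.left Z.hom hZ h2 h1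
  refine ⟨V, hV, fun V' hV' => ?_⟩
  have := hP.respectsIso
  exact (iff_bcMap_of_isPullback (IsPullback.of_hasPullback Z.hom V'.ι)
    (isPullback_map_left V'.ι c)).mpr (bcMap_of_le hV' hPV)

omit [IsIntegral S] in
/-- Morphisms from a flat scheme to a separated scheme which agree after a schematically dominant base change
are equal. -/
theorem eq_of_map_eq {S' : Scheme.{u}} (t : S' ⟶ S) [IsSchemeTheoreticallyDominant t] [QuasiCompact t]
    {Y Z : Over S} [Flat Y.hom] [IsSeparated Z.hom] (f g : Y ⟶ Z)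
    (h : (Over.pullback t).map f = (Over.pullback t).map g) : f = g := by
  ext1
  refine Groth.Agent.Sga7.H516.GenExt.ext_of_generic (IsPullback.of_hasPullback Y.hom t) (y := Z.hom) ?_ ?_
  · rw [Over.w, Over.w]
  · have h1 := (isPullback_map_left t f).w
    have h2 := (isPullback_map_left t g).w
    rw [h1, h2, h]

section main

variable {U W X : Over S} [GrpObj U] [GrpObj W] (h : U ⟶ W) (q : W ⟶ X)

omit [IsIntegral S] [GrpObj U] in
lemma μ_map_act {S' : Scheme.{u}} (g : S' ⟶ S) :
    Functor.LaxMonoidal.μ (Over.pullback g) U W ≫ (Over.pullback g).map ((h ▷ W) ≫ μ[W]) =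
      ((Over.pullback g).map h ▷ Red.bc g W) ≫ μ[Red.bc g W] := by
  rw [Functor.map_comp, ← Functor.LaxMonoidal.μ_natural_left_assoc]
  rfl

/-- **Spreading out of the transitivity condition.** -/
theorem exists_open (hU : FP U.hom) (hW : FP W.hom) (hX : FP X.hom) [Flat U.hom] [Flat W.hom]
    [IsSeparated X.hom] {K : Type u} [Field K] (t : Spec (CommRingCat.of K) ⟶ S)
    (ht : t (IsLocalRing.closedPoint K) = genericPoint S) [IsSchemeTheoreticallyDominant t] [QuasiCompact t]
    (hT : Trans ((Over.pullback t).map h : Red.bc t U ⟶ Red.bc t W) ((Over.pullback t).map q)) :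
    ∃ V : S.Opens, genericPoint S ∈ V ∧ ∀ V' : S.Opens, V' ≤ V →
      Trans ((Over.pullback V'.ι).map h : Red.bc V'.ι U ⟶ Red.bc V'.ι W) ((Over.pullback V'.ι).map q) := by
  obtain ⟨hqK, EK, aK, bK, hEK, cK, haK, hbK, hcK⟩ := hT
  have hfl : Flat (U ⊗ W).hom := by
    have h1 : Flat (pullback.fst U.hom W.hom ≫ U.hom) := inferInstance
    exact h1
  have w : ((h ▷ W) ≫ μ[W]) ≫ q = snd U W ≫ q := by
    apply eq_of_map_eq t
    have h1 : (cK ≫ aK) ≫ (Over.pullback t).map q = (cK ≫ bK) ≫ (Over.pullback t).map q := by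
      rw [Category.assoc, Category.assoc, hEK.w]
    rw [haK, hbK] at h1
    have h2 : Functor.LaxMonoidal.μ (Over.pullback t) U W ≫ (Over.pullback t).map (((h ▷ W) ≫ μ[W]) ≫ q) =
        (((Over.pullback t).map h ▷ Red.bc t W) ≫ μ[Red.bc t W]) ≫ (Over.pullback t).map q := by
      rw [← μ_map_act, Functor.map_comp _ ((h ▷ W) ≫ μ[W]) q, ← Category.assoc]
    have h3 : Functor.LaxMonoidal.μ (Over.pullback t) U W ≫ (Over.pullback t).map (snd U W ≫ q) =
        snd (Red.bc t U) (Red.bc t W) ≫ (Over.pullback t).map q := by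
      rw [Functor.map_comp, ← Category.assoc]
      exact congr($(Functor.Monoidal.μ_snd (Over.pullback t) U W) ≫ (Over.pullback t).map q)
    rw [← cancel_epi (Functor.LaxMonoidal.μ (Over.pullback t) U W), h2, h3]
    exact h1
  let E : Over S := pullback q q
  let c : U ⊗ W ⟶ E := pullback.lift ((h ▷ W) ≫ μ[W]) (snd U W) w
  have hE : IsPullback (pullback.fst q q) (pullback.snd q q) q q := .of_hasPullback q q
  have ha : c ≫ pullback.fst q q = (h ▷ W) ≫ μ[W] := pullback.lift_fst _ _ _
  have hb : c ≫ pullback.snd q q = snd U W := pullback.lift_snd _ _ _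
  have hE' := hE.map (Over.pullback t)
  let φ : EK ≅ (Over.pullback t).obj E := hEK.isoIsPullback _ _ hE'
  have hφ : Functor.LaxMonoidal.μ (Over.pullback t) U W ≫ (Over.pullback t).map c = cK ≫ φ.hom := by
    apply hE'.hom_ext
    · rw [Category.assoc, ← Functor.map_comp, ha, μ_map_act, Category.assoc,
        hEK.isoIsPullback_hom_fst _ _ hE', haK]
    · rw [Category.assoc, ← Functor.map_comp, hb, Functor.Monoidal.μ_snd, Category.assoc,
        hEK.isoIsPullback_hom_snd _ _ hE', hbK]
  have hcF : IsFppf ((Over.pullback t).map c).left := by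
    have h1 : (Over.pullback t).map c = inv (Functor.LaxMonoidal.μ (Over.pullback t) U W) ≫ cK ≫ φ.hom := by
      rw [IsIso.eq_inv_comp, hφ]
    have h2 : IsIso (inv (Functor.LaxMonoidal.μ (Over.pullback t) U W)).left :=
      inferInstanceAs (IsIso ((Over.forget _).map (inv (Functor.LaxMonoidal.μ (Over.pullback t) U W))))
    have h3 : IsIso φ.hom.left := inferInstanceAs (IsIso ((Over.forget _).map φ.hom))
    rw [h1, Over.comp_left, Over.comp_left]
    exact (IsFppf.of_isIso _).comp (hcK.comp (IsFppf.of_isIso _))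
  have hq0 : FP q.left := FP.of_comp (g := X.hom) (by rw [Over.w]; exact hW) hX
  have hUW : FP (U ⊗ W).hom := by
    have h1 : FP (pullback.fst U.hom W.hom) := FP.of_isPullback (IsPullback.of_hasPullback U.hom W.hom).flip hW
    exact h1.comp hU
  have hEFP : FP E.hom := by
    have h1 : FP (pullback.fst q q).left := FP.of_isPullback (hE.map (Over.forget S)).flip hq0
    have h2 := h1.comp hW
    rwa [Over.w] at h2
  obtain ⟨V1, hV1, hP1⟩ := exists_open_map Groth.Agent.Ega43.LocusFlat.fpqcInv_flat descRow_flat q hW hX t ht hqK.1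
  obtain ⟨V2, hV2, hP2⟩ := exists_open_map fpqcInv_surjective descRow_surjective q hW hX t ht hqK.2.1
  obtain ⟨V3, hV3, hP3⟩ := exists_open_map Groth.Agent.Ega43.LocusFlat.fpqcInv_flat descRow_flat c hUW hEFP t ht hcF.1
  obtain ⟨V4, hV4, hP4⟩ := exists_open_map fpqcInv_surjective descRow_surjective c hUW hEFP t ht hcF.2.1
  have hq3 : LocallyOfFinitePresentation q.left := hq0.lfp
  have hc3 : LocallyOfFinitePresentation c.left :=
    (FP.of_comp (f := c.left) (g := E.hom) (by rw [Over.w]; exact hUW) hEFP).lfp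
  refine ⟨V1 ⊓ V2 ⊓ V3 ⊓ V4, ⟨⟨⟨hV1, hV2⟩, hV3⟩, hV4⟩, fun V' hV' => ?_⟩
  have h4 : V' ≤ V4 := hV'.trans inf_le_right
  have h3 : V' ≤ V3 := hV'.trans (inf_le_left.trans inf_le_right)
  have h2 : V' ≤ V2 := hV'.trans (inf_le_left.trans (inf_le_left.trans inf_le_right))
  have h1 : V' ≤ V1 := hV'.trans (inf_le_left.trans (inf_le_left.trans inf_le_left))
  exact trans_map V'.ι hE c ha hb
    ⟨hP1 V' h1, hP2 V' h2, MorphismProperty.of_isPullback (isPullback_map_left V'.ι q) hq3⟩
    ⟨hP3 V' h3, hP4 V' h4, MorphismProperty.of_isPullback (isPullback_map_left V'.ι c) hc3⟩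

end main

end spread

end Groth.Agent.Pic13.H508.QuotGeneric
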