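import Groth.Agent.Pic13.H508.QuotAlg
import Groth.Agent.Books.AffBridge2
import Mathlib.AlgebraicGeometry.Morphisms.Flat
import Mathlib.AlgebraicGeometry.Pullbacks

/-!
# Spreading out an affine quotient of the generic fibre

`R` a domain with fraction field `K`, `W` an affine `R`-scheme, `q' : W_K ⟶ X'` a faithfully flat morphism to an
affine `K`-scheme of finite type. Then `q'` is the generic fibre of a morphism `q : W ⟶ X` to an affine
`R`-scheme of finite type.
-/

set_option autoImplicit false
universe u
open CategoryTheory MonoidalCategory CartesianMonoidalCategory AlgebraicGeometry Limits TensorProduct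

namespace Groth.Agent.Pic13.H508.QuotModel

open Groth.Agent.Books.AffBridge Groth.Agent.Books.AffBridge2

/-- An affine scheme over `Spec R` is the spectrum of an `R`-algebra. -/
theorem exists_alg (R : Type u) [CommRing R] (W : Over (Spec (CommRingCat.of R))) [IsAffine W.left] :
    ∃ (A : Type u) (_ : CommRing A) (_ : Algebra R A), Nonempty (SpecOver R A ≅ W) := by
  let f : CommRingCat.of R ⟶ Γ(W.left, ⊤) := Spec.preimage (W.left.isoSpec.inv ≫ W.hom)
  let _ : Algebra R Γ(W.left, ⊤) := f.hom.toAlgebra
  refine ⟨Γ(W.left, ⊤), inferInstance, inferInstance, ⟨Over.isoMk W.left.isoSpec.symm ?_⟩⟩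
  change W.left.isoSpec.inv ≫ W.hom = Spec.map f
  exact (Spec.map_preimage _).symm

section bc

variable (R K : Type u) [CommRing R] [CommRing K] [Algebra R K]

/-- `Spec K ⟶ Spec R` -/
noncomputable abbrev tt : Spec (CommRingCat.of K) ⟶ Spec (CommRingCat.of R) :=
  Spec.map (CommRingCat.ofHom (algebraMap R K))

variable (A : Type u) [CommRing A] [Algebra R A]

theorem isPullback_bc : IsPullback
    (Spec.map (CommRingCat.ofHom (Algebra.TensorProduct.includeRight : A →ₐ[R] K ⊗[R] A).toRingHom))
    (SpecOver K (K ⊗[R] A)).hom (SpecOver R A).hom (tt R K) :=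
  (isPullback_SpecMap_of_isPushout _ _ _ _ (CommRingCat.isPushout_tensorProduct R K A)).flip

/-- `bc (Spec A) ≅ Spec (K ⊗ A)` -/
noncomputable def β : (Over.pullback (tt R K)).obj (SpecOver R A) ≅ SpecOver K (K ⊗[R] A) :=
  Over.isoMk (isPullback_bc R K A).isoPullback.symm (by
    rw [Iso.symm_hom, Iso.inv_comp_eq]
    exact ((isPullback_bc R K A).isoPullback_hom_snd).symm)

theorem β_inv_left_fst : (β R K A).inv.left ≫ pullback.fst (SpecOver R A).hom (tt R K) =
    Spec.map (CommRingCat.ofHom (Algebra.TensorProduct.includeRight : A →ₐ[R] K ⊗[R] A).toRingHom) :=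
  (isPullback_bc R K A).isoPullback_hom_fst

variable {A} {D : Type u} [CommRing D] [Algebra R D]

theorem map_specMap_β (f : D →ₐ[R] A) :
    (Over.pullback (tt R K)).map (specMap R f) ≫ (β R K D).hom =
      (β R K A).hom ≫ specMap K (Algebra.TensorProduct.map (AlgHom.id K K) f) := by
  rw [← Iso.eq_comp_inv, Category.assoc, ← Iso.inv_comp_eq]
  ext1
  apply pullback.hom_ext
  · have h1 : ((Over.pullback (tt R K)).map (specMap R f)).left ≫ pullback.fst (SpecOver R D).hom (tt R K) =
        pullback.fst (SpecOver R A).hom (tt R K) ≫ (specMap R f).left := pullback.lift_fst _ _ _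
    rw [Over.comp_left, Over.comp_left, Category.assoc, Category.assoc, h1, β_inv_left_fst,
      ← Category.assoc, β_inv_left_fst]
    change Spec.map _ ≫ Spec.map _ = Spec.map _ ≫ Spec.map _
    rw [← Spec.map_comp, ← Spec.map_comp]
    congr 1
  · change _ ≫ ((Over.pullback (tt R K)).obj (SpecOver R D)).hom = _ ≫ ((Over.pullback (tt R K)).obj (SpecOver R D)).hom
    rw [Over.w, Over.w]

end bc

/-- **Spreading out of a quotient of the generic fibre.** -/
theorem exists_model (R K : Type u) [CommRing R] [IsDomain R] [Field K] [Algebra R K] [IsFractionRing R K]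
    (W : Over (Spec (CommRingCat.of R))) [IsAffine W.left]
    (X' : Over (Spec (CommRingCat.of K))) [IsAffine X'.left] [LocallyOfFiniteType X'.hom]
    (q' : (Over.pullback (tt R K)).obj W ⟶ X') [Flat q'.left] [Surjective q'.left] :
    ∃ (X : Over (Spec (CommRingCat.of R))) (q : W ⟶ X) (θ : (Over.pullback (tt R K)).obj X ≅ X'),
      IsAffine X.left ∧ LocallyOfFiniteType X.hom ∧ (Over.pullback (tt R K)).map q ≫ θ.hom = q' := by
  obtain ⟨A, _, _, ⟨a⟩⟩ := exists_alg R W
  obtain ⟨B, _, _, ⟨b⟩⟩ := exists_alg K X'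
  let r : SpecOver K (K ⊗[R] A) ⟶ SpecOver K B :=
    (β R K A).inv ≫ (Over.pullback (tt R K)).map a.hom ≫ q' ≫ b.inv
  let ψ : B →ₐ[K] K ⊗[R] A := specPreimage K r
  have hψ : specMap K ψ = r := specMap_specPreimage K r
  have hleft : r.left = (β R K A).inv.left ≫ ((Over.pullback (tt R K)).map a.hom).left ≫ q'.left ≫ b.inv.left :=
    rfl
  have i1 : IsIso (β R K A).inv.left := inferInstanceAs (IsIso ((Over.forget _).map (β R K A).inv))
  have i2 : IsIso ((Over.pullback (tt R K)).map a.hom).left :=
    inferInstanceAs (IsIso ((Over.forget _).map ((Over.pullback (tt R K)).map a.hom)))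
  have i3 : IsIso b.inv.left := inferInstanceAs (IsIso ((Over.forget _).map b.inv))
  have h1 : Flat (specMap K ψ).left := by rw [hψ, hleft]; infer_instance
  have h2 : Surjective (specMap K ψ).left := by rw [hψ, hleft]; infer_instance
  have h3 : Function.Injective ψ := ((flat_and_surjective_specMap_iff K ψ).1 ⟨h1, h2⟩).injective
  have hB : Algebra.FiniteType K B := by
    rw [← locallyOfFiniteType_specOver_iff]
    have h4 : (SpecOver K B).hom = b.hom.left ≫ X'.hom := (Over.w b.hom).symm
    have i4 : IsIso b.hom.left := inferInstanceAs (IsIso ((Over.forget _).map b.hom))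
    rw [h4]
    infer_instance
  obtain ⟨D, hD, σ, hσ⟩ := QuotAlg.exists_subalgebra ψ h3
  have hσ' : (Algebra.TensorProduct.map (AlgHom.id K K) D.val).comp (σ.symm : B →ₐ[K] K ⊗[R] D) = ψ := by
    ext x
    have h4 := hσ (σ.symm x)
    rw [AlgEquiv.apply_symm_apply] at h4
    exact h4.symm
  let s : SpecOver K (K ⊗[R] D) ≅ SpecOver K B :=
    { hom := specMap K (σ.symm : B →ₐ[K] K ⊗[R] D)
      inv := specMap K (σ : K ⊗[R] D →ₐ[K] B)
      hom_inv_id := by
        rw [← specMap_comp, ← specMap_id]
        congr 1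
        ext x <;> simp
      inv_hom_id := by
        rw [← specMap_comp, ← specMap_id]
        congr 1
        ext x
        simp }
  refine ⟨SpecOver R D, a.inv ≫ specMap R D.val, β R K D ≪≫ s ≪≫ b,
    inferInstanceAs (IsAffine (Spec (CommRingCat.of D))),
    (locallyOfFiniteType_specOver_iff R D).2 ((Subalgebra.fg_iff_finiteType D).1 hD), ?_⟩
  rw [Functor.map_comp, Iso.trans_hom, Iso.trans_hom, Category.assoc]
  have h5 := map_specMap_β R K D.val
  rw [← Category.assoc ((Over.pullback (tt R K)).map (specMap R D.val)), h5]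
  have h6 : specMap K (Algebra.TensorProduct.map (AlgHom.id K K) D.val) ≫ s.hom = r := by
    change specMap K (Algebra.TensorProduct.map (AlgHom.id K K) D.val) ≫
      specMap K (σ.symm : B →ₐ[K] K ⊗[R] D) = r
    rw [← specMap_comp, hσ', hψ]
  rw [Category.assoc, ← Category.assoc _ s.hom, h6]
  simp [r]

end Groth.Agent.Pic13.H508.QuotModel
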