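import Groth.Agent.Pic13.H547.LemmaA
import Groth.Agent.Ega3A.PicLocBase

/-!
# Restriction of Picard functors along a morphism

For `q : A ⟶ B` over `S` (`h : q ≫ f = f'`): `mT q h T : A_T ⟶ B_T`, `pw q h T : Pic B_T →* Pic A_T`,
`exists_res`: the induced morphism of representing schemes.
-/

set_option autoImplicit false
universe w u

open CategoryTheory CategoryTheory.Limits AlgebraicGeometry Opposite MonoidalCategory CartesianMonoidalCategory
open Groth.Agent.Ega3A.PicDiv Groth.Agent.Ega3A.PicEtSh Groth.Agent.Grpsch.PicGrp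
open Groth.Agent.Ega3A.PicSheaf Groth.Agent.Ega3A.PicRep Groth.Agent.Picfga.OverRep
open Groth.Agent.Pic13.H547

namespace Groth.Agent.Pic13.H508.SqMT

variable {A B C S : Scheme.{u}} {f' : A ⟶ S} {f : B ⟶ S} (q : A ⟶ B) (h : q ≫ f = f')

/-- `q_T : A_T ⟶ B_T`. -/
noncomputable def mT (T : Over S) : PicF.XT f' T ⟶ PicF.XT f T :=
  pullback.map f' T.hom f T.hom q (𝟙 _) (𝟙 _) (by simp [h]) (by simp)

@[reassoc (attr := simp)]
lemma mT_fst (T : Over S) : mT q h T ≫ pullback.fst f T.hom = pullback.fst _ _ ≫ q :=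
  pullback.lift_fst _ _ _

@[reassoc (attr := simp)]
lemma mT_snd (T : Over S) : mT q h T ≫ pullback.snd f T.hom = pullback.snd _ _ := by
  rw [mT, pullback.lift_snd]
  exact Category.comp_id _

lemma XTmap_fst {T T' : Over S} (g : T' ⟶ T) :
    PicF.XTmap f g ≫ pullback.fst f T.hom = pullback.fst f T'.hom :=
  Groth.Agent.Ega3A.PicLocBase.XTmap_fst' f g

lemma XTmap_snd {T T' : Over S} (g : T' ⟶ T) :
    PicF.XTmap f g ≫ pullback.snd f T.hom = pullback.snd f T'.hom ≫ g.left :=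
  Groth.Agent.Ega3A.PicLocBase.XTmap_snd' f g

lemma mT_XTmap {T T' : Over S} (g : T' ⟶ T) :
    mT q h T' ≫ PicF.XTmap f g = PicF.XTmap f' g ≫ mT q h T := by
  apply pullback.hom_ext
  · rw [Category.assoc, XTmap_fst, mT_fst, Category.assoc, mT_fst, ← Category.assoc, XTmap_fst]
  · rw [Category.assoc, XTmap_snd, mT_snd_assoc, Category.assoc, mT_snd, XTmap_snd]

lemma isPullback_mT (T : Over S) :
    IsPullback (mT q h T) (pullback.fst f' T.hom) (pullback.fst f T.hom) q := by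
  refine IsPullback.of_right (h₁₂ := pullback.snd f T.hom) (v₁₃ := T.hom) (h₂₂ := f) ?_
    (mT_fst q h T) (IsPullback.of_hasPullback f T.hom).flip
  rw [mT_snd, h]
  exact (IsPullback.of_hasPullback f' T.hom).flip

lemma mT_comp {f'' : C ⟶ S} (p : C ⟶ A) (h' : p ≫ f' = f'') (h'' : (p ≫ q) ≫ f = f'') (T : Over S) :
    mT p h' T ≫ mT q h T = mT (p ≫ q) h'' T := by
  apply pullback.hom_ext <;> simp

lemma mT_comp_congr {D : Scheme.{u}} {g : C ⟶ S} {f₂ : D ⟶ S} {p : C ⟶ A} {q : A ⟶ B} {p' : C ⟶ D} {q' : D ⟶ B}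
    (h : q ≫ f = f') (h' : p ≫ f' = g) (k : q' ≫ f = f₂) (k' : p' ≫ f₂ = g) (w : p ≫ q = p' ≫ q') (T : Over S) :
    mT p h' T ≫ mT q h T = mT p' k' T ≫ mT q' k T := by
  apply pullback.hom_ext
  · simp [w]
  · simp

/-- Restriction of classes. -/
noncomputable def pw (T : Over S) : Pic (PicF.XT f T) →* Pic (PicF.XT f' T) := pull (mT q h T)

lemma pw_pu {T T' : Over S} (g : T' ⟶ T) (c : Pic (PicF.XT f T)) :
    pw q h T' (pu f g c) = pu f' g (pw q h T c) := by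
  rw [pw, pw, pu, pu, ← pull_comp, ← pull_comp, mT_XTmap]

lemma pw_pw {D : Scheme.{u}} {g : C ⟶ S} {f₂ : D ⟶ S} {p : C ⟶ A} {q : A ⟶ B} {p' : C ⟶ D} {q' : D ⟶ B}
    (h : q ≫ f = f') (h' : p ≫ f' = g) (k : q' ≫ f = f₂) (k' : p' ≫ f₂ = g) (w : p ≫ q = p' ≫ q') (T : Over S)
    (c : Pic (PicF.XT f T)) : pw p h' T (pw q h T c) = pw p' k' T (pw q' k T c) := by
  rw [pw, pw, pw, pw, ← pull_comp, ← pull_comp, mT_comp_congr h h' k k' w]

lemma locEq_pw {T : Over S} {c c' : Pic (PicF.XT f T)} (hc : LocEq f T c c') :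
    LocEq f' T (pw q h T c) (pw q h T c') := by
  obtain ⟨𝒰, h𝒰⟩ := hc
  refine ⟨𝒰, fun i => ?_⟩
  rw [← pw_pu, ← pw_pu, h𝒰]

variable {P P' : Over S} {φ : ∀ T : Over S, Pic (PicF.XT f T) → (T ⟶ P)}
  {φ' : ∀ T : Over S, Pic (PicF.XT f' T) → (T ⟶ P')}

theorem RepPic.eq_of_locEq (hP : RepPic f P φ) {T : Over S} {c c' : Pic (PicF.XT f T)} (hc : LocEq f T c c') :
    φ T c = φ T c' := by
  obtain ⟨𝒰, h𝒰⟩ := hc
  apply LemmaA.hom_ext 𝒰
  intro i
  rw [← hP.nat, ← hP.nat, h𝒰]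

/-- The morphism of representing schemes induced by restriction. -/
theorem exists_res (hP : RepPic f P φ) (hP' : RepPic f' P' φ') : ∃ r : P ⟶ P', ∀ (T : Over S)
    (c : Pic (PicF.XT f T)), φ T c ≫ r = φ' T (pw q h T c) := by
  obtain ⟨𝒰, h𝒰⟩ := hP.surj (𝟙 P)
  choose c hc using h𝒰
  obtain ⟨r, hr⟩ := LemmaA.glue_hom 𝒰 (fun i => φ' _ (pw q h _ (c i))) (by
    intro i k W a b hab
    rw [← hP'.nat, ← hP'.nat, ← pw_pu, ← pw_pu]
    apply RepPic.eq_of_locEq hP'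
    apply locEq_pw
    apply hP.inj
    rw [hP.nat, hP.nat, hc, hc, Category.comp_id, Category.comp_id, hab])
  refine ⟨r, fun T d => ?_⟩
  obtain ⟨𝒱, h𝒱⟩ := LemmaA.exists_pull 𝒰 (φ T d)
  apply LemmaA.hom_ext 𝒱
  intro i
  obtain ⟨k, s, hs⟩ := h𝒱 i
  rw [← Category.assoc, ← hs, Category.assoc, hr, ← hP'.nat, ← hP'.nat, ← pw_pu, ← pw_pu]
  apply RepPic.eq_of_locEq hP'
  apply locEq_pw
  apply hP.inj
  rw [hP.nat, hP.nat, hc, Category.comp_id, hs]

end Groth.Agent.Pic13.H508.SqMT
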